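import Cfsg.Agent.Lib.KnownA.SympMinDeg.Form

/-!
# Landazuri–Seitz bound for `Sp_{2n}(q)`, `q` even

If a transvection supported on a non-degenerate coordinate subspace of dimension `2m` acts
non-trivially on a finite-dimensional complex representation, the dimension is at least
`(q^m - 1)(q^m - q)/(2(q+1))`.
-/

set_option autoImplicit false

namespace CfsgLib.KnownA.SympMinDeg

open Matrix CfsgLib.Classical CfsgLib.KnownA.CentralChar

/-- The bound, recursively. -/
def bnd (q : ℕ) : ℕ → ℕ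
  | 0 => 0
  | k + 1 => (q - 1) * (q ^ k * (q ^ k - 1) / 2) + bnd q k

theorem bnd_one (q : ℕ) : bnd q 1 = 0 := by simp [bnd]

theorem bnd_mul (q : ℕ) (hq : 1 ≤ q) :
    ∀ n, 1 ≤ n → 2 * (q + 1) * bnd q n = (q ^ n - 1) * (q ^ n - q)
  | 0, h => absurd h (by omega)
  | 1, _ => by simp [bnd]
  | n + 2, _ => by
    have ih := bnd_mul q hq (n + 1) (by omega)
    set Q := q ^ (n + 1) with hQ
    have hQ1 : 1 ≤ Q := Nat.one_le_pow _ _ hq
    have hQq : q ≤ Q := Nat.le_self_pow (by omega) q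
    have heven : 2 * (Q * (Q - 1) / 2) = Q * (Q - 1) :=
      Nat.mul_div_cancel' (Nat.even_mul_pred_self Q).two_dvd
    rw [show q ^ (n + 2) = q * Q by rw [hQ, pow_succ' q (n + 1)],
      show bnd q (n + 2) = (q - 1) * (Q * (Q - 1) / 2) + bnd q (n + 1) from rfl,
      show 2 * (q + 1) * ((q - 1) * (Q * (Q - 1) / 2) + bnd q (n + 1)) =
        (q + 1) * (q - 1) * (2 * (Q * (Q - 1) / 2)) + 2 * (q + 1) * bnd q (n + 1) by ring, heven, ih]
    obtain ⟨p, rfl⟩ : ∃ p, q = p + 1 := ⟨q - 1, by omega⟩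
    obtain ⟨R, hR⟩ : ∃ R, Q = R + (p + 1) := ⟨Q - (p + 1), by omega⟩
    rw [hR, Nat.add_sub_cancel, show R + (p + 1) - 1 = R + p by omega,
      Nat.add_sub_cancel,
      show (p + 1) * (R + (p + 1)) - 1 = (p + 1) * R + p * p + 2 * p by ring_nf; omega,
      show (p + 1) * (R + (p + 1)) - (p + 1) = (p + 1) * R + (p + 1) * p by ring_nf; omega]
    ring

variable {l : Type*} [Fintype l] [DecidableEq l] {F : Type*} [Field F]

/-- The coordinates outside `t`. -/
abbrev Out (t : Finset l) : Type _ := {i // i ∉ t}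

/-- The vectors supported outside `t`, in coordinates. -/
def emb (t : Finset l) : (Out t → F × F) →ₗ[F] (l ⊕ l → F) where
  toFun w := Sum.elim (fun i => if h : i ∉ t then (w ⟨i, h⟩).1 else 0)
    (fun i => if h : i ∉ t then (w ⟨i, h⟩).2 else 0)
  map_add' w v := by
    funext k
    rcases k with i | i <;> by_cases h : i ∈ t <;> simp [h]
  map_smul' c w := by
    funext k
    rcases k with i | i <;> by_cases h : i ∈ t <;> simp [h]

theorem emb_mem (t : Finset l) (w : Out t → F × F) : emb t w ∈ supOutside t := fun i hi => by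
  simp [emb, hi]

theorem emb_single (t : Finset l) (i : Out t) :
    emb t (Pi.single i ((0 : F), (1 : F))) = Pi.single (.inr i.1) 1 := by
  funext k
  rcases k with a | a
  · by_cases h : a ∈ t
    · simp [emb, h]
    · by_cases ha : (⟨a, h⟩ : Out t) = i
      · subst ha; simp [emb, h]
      · simp [emb, h, Pi.single_eq_of_ne ha]
  · by_cases h : a ∈ t
    · have : a ≠ i.1 := fun e => i.2 (e ▸ h)
      simp [emb, h, this]
    · by_cases ha : (⟨a, h⟩ : Out t) = i
      · subst ha; simp [emb, h]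
      · have : a ≠ i.1 := fun e => ha (Subtype.ext e)
        simp [emb, h, Pi.single_eq_of_ne ha, this]

/-- The long root vector. -/
abbrev eV (j : l) : l ⊕ l → F := Pi.single (.inr j) 1

/-- Its partner. -/
abbrev fV (j : l) : l ⊕ l → F := Pi.single (.inl j) 1

theorem sbil_eV_out {t : Finset l} {j : l} (hj : j ∈ t) {x : l ⊕ l → F} (hx : x ∈ supOutside t) :
    sbil x (eV j) = 0 ∧ sbil (eV j) x = 0 := by
  have h : sbil x (eV j) = 0 := by rw [sbil_single_inr, (hx j hj).1]; simp
  exact ⟨h, by rw [sbil_swap, h, neg_zero]⟩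

theorem eV_mem {s : Finset l} {j : l} (hj : j ∉ s) : (eV j : l ⊕ l → F) ∈ supOutside s :=
  (single_mem_supOutside hj 1).2

theorem fV_mem {s : Finset l} {j : l} (hj : j ∉ s) : (fV j : l ⊕ l → F) ∈ supOutside s :=
  (single_mem_supOutside hj 1).1

/-- The radical of the stabiliser of the point `eV j`. -/
def rad (j : l) (t : Finset l) (p : (Out t → F × F) × F) : Matrix.symplecticGroup l F :=
  stv 1 (eV j + emb t p.1) * stv 1 (emb t p.1) * stv (1 + (p.2 + wq p.1)) (eV j)

variable [CharP F 2]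

theorem sbil_emb (t : Finset l) (w v : Out t → F × F) : sbil (emb t w) (emb t v) = wb w v := by
  rw [sbil_apply, wb]
  refine (Fintype.sum_of_injective (Subtype.val : Out t → l) Subtype.val_injective _ _ ?_ ?_).symm
  · intro i hi
    have : i ∈ t := by_contra fun h => hi ⟨⟨i, h⟩, rfl⟩
    simp [emb, this]
  · intro i
    simp [emb, i.2, CharTwo.sub_eq_add]

theorem rad_mulVec {j : l} {t : Finset l} (hj : j ∈ t) (p : (Out t → F × F) × F) (x : l ⊕ l → F) :
    (rad j t p).1 *ᵥ x = x + sbil (emb t p.1) x • eV j + sbil (eV j) x • emb t p.1 +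
      ((p.2 + wq p.1) * sbil (eV j) x) • eV j := by
  obtain ⟨h1, h2⟩ := sbil_eV_out hj (emb_mem t p.1)
  have h2' : (2 : F) = 0 := CharTwo.two_eq_zero
  funext k
  simp only [rad, sp_mul_mulVec, stv_mulVec, sbil_add_right, sbil_add_left, sbil_smul_right,
    sbil_self, h1, h2, Pi.add_apply, Pi.smul_apply, smul_eq_mul]
  linear_combination (sbil (eV j) x * eV j k + sbil (emb t p.1) x * emb t p.1 k) * h2'

theorem rad_add {j : l} {t : Finset l} (hj : j ∈ t) (p p' : (Out t → F × F) × F) :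
    rad j t (p + p') = rad j t p * rad j t p' := by
  refine sp_ext fun x => ?_
  obtain ⟨h1, h2⟩ := sbil_eV_out hj (emb_mem t p.1)
  obtain ⟨h1', h2'⟩ := sbil_eV_out hj (emb_mem t p'.1)
  simp only [sp_mul_mulVec, rad_mulVec hj, Prod.fst_add, Prod.snd_add, map_add, wq_add,
    sbil_add_right, sbil_add_left, sbil_smul_right, sbil_self, h1, h2, h1', h2', sbil_emb]
  module

theorem rad_zero {j : l} {t : Finset l} (c : F) : rad j t (0, c) = stv c (eV j) := by
  simp only [rad, map_zero, add_zero, wq, Pi.zero_apply, Prod.fst_zero, zero_mul, Finset.sum_const_zero]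
  rw [show stv (1 : F) (0 : l ⊕ l → F) = 1 from sp_ext fun x => by simp, mul_one, stv_mul, ← add_assoc,
    CharTwo.add_self_eq_zero, zero_add]

theorem rad_mem {s : Finset l} {j : l} (hj : j ∉ s) (p : (Out (insert j s) → F × F) × F) :
    rad j (insert j s) p ∈ stvClosure (supOutside s : Submodule F (l ⊕ l → F)) := by
  have hm : emb (insert j s) p.1 ∈ supOutside s := fun i hi =>
    emb_mem _ p.1 i (Finset.mem_insert_of_mem hi)
  exact mul_mem (mul_mem (stv_mem_stvClosure _ (add_mem (eV_mem hj) hm)) (stv_mem_stvClosure _ hm))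
    (stv_mem_stvClosure _ (eV_mem hj))

theorem stv_rad {j : l} {t : Finset l} (hj : j ∈ t) (a : F) (v : Out t → F × F)
    (p : (Out t → F × F) × F) :
    rad j t p * stv a (emb t v) = stv a (emb t v) * rad j t (twRad a v p) := by
  set g := stv a (emb t v) with hg
  have hgg : g * g = 1 := by rw [hg, stv_mul, CharTwo.add_self_eq_zero, stv_zero]
  have he : g.1 *ᵥ eV j = eV j := by
    rw [hg, stv_mulVec, (sbil_eV_out hj (emb_mem t v)).1, mul_zero, zero_smul, add_zero]
  have hw : g.1 *ᵥ emb t p.1 = emb t (tw a v p.1) := by simp [hg, tw, sbil_emb]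
  have key : g * rad j t p * g⁻¹ = rad j t (twRad a v p) := by
    rw [rad, show ∀ A B C : Matrix.symplecticGroup l F, g * (A * B * C) * g⁻¹ =
      (g * A * g⁻¹) * (g * B * g⁻¹) * (g * C * g⁻¹) from fun A B C => by group,
      stv_conj, stv_conj, stv_conj, mulVec_add, he, hw, rad]
    simp only [twRad]
    congr 2
    linear_combination (-(wq (tw a v p.1))) * (CharTwo.two_eq_zero (R := F))
  rw [← key, inv_eq_of_mul_eq_one_right hgg, ← mul_assoc, ← mul_assoc, hgg, one_mul]

theorem stv_comm_eV {j : l} {x : l ⊕ l → F} {g : Matrix.symplecticGroup l F}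
    (hg : g.1 *ᵥ eV j = x) (c : F) : stv c x * g = g * stv c (eV j) := by
  rw [← hg, ← stv_conj, inv_mul_cancel_right]

/-! ### Representations -/

variable {V : Type*} [AddCommGroup V] [Module ℂ V]
  (ρ : Representation ℂ (Matrix.symplecticGroup l F) V)

/-- The transvection group of `eV j`. -/
abbrev z0 (j : l) : F → Matrix.symplecticGroup l F := fun c => stv c (eV j)

omit [CharP F 2] in
theorem z0_add (j : l) (a b : F) : z0 (F := F) j (a + b) = z0 j a * z0 j b := (stv_mul a b _).symm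

variable [Finite F] [FiniteDimensional ℂ V]

theorem stable_chi {s : Finset l} {j : l} (hj : j ∉ s) (X : Submodule ℂ V)
    (hX : ∀ g ∈ stvClosure (supOutside s : Submodule F (l ⊕ l → F)), Stable ρ X g) (φ : AddChar F ℂ) :
    (∀ p, Stable ρ (X ⊓ space ρ (z0 j) φ) (rad j (insert j s) p)) ∧
      ∀ a v, Stable ρ (X ⊓ space ρ (z0 j) φ) (stv a (emb (insert j s) v)) := by
  refine ⟨fun p => stable_inf_space ρ (hX _ (rad_mem hj p)) fun c => ?_,
    fun a v => stable_inf_space ρ (hX _ (stv_mem_stvClosure _ fun i hi =>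
      emb_mem _ v i (Finset.mem_insert_of_mem hi))) fun c => ?_⟩
  · refine stv_comm_eV ?_ c
    rw [rad_mulVec (Finset.mem_insert_self j s)]
    simp [(sbil_eV_out (Finset.mem_insert_self j s) (emb_mem (insert j s) p.1)).1]
  · refine stv_comm_eV ?_ c
    rw [stv_mulVec, (sbil_eV_out (Finset.mem_insert_self j s) (emb_mem (insert j s) v)).1, mul_zero,
      zero_smul, add_zero]

/-- A weight occurs, and with it its whole class. -/
theorem exists_weights {s : Finset l} {j : l} (hj : j ∉ s) (X : Submodule ℂ V)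
    (hX : ∀ g ∈ stvClosure (supOutside s : Submodule F (l ⊕ l → F)), Stable ρ X g)
    (hne : X ⊓ space ρ (z0 j) chi ≠ ⊥) :
    ∃ d : Out (insert j s) → F × F, ∀ d', chi (wq d') = chi (wq d) →
      X ⊓ space ρ (z0 j) chi ⊓ space ρ (rad j (insert j s)) (wt d') ≠ ⊥ := by
  obtain ⟨hst, hst'⟩ := stable_chi ρ hj X hX chi
  obtain ⟨ψ, hψ⟩ := exists_char_any ρ (rad j (insert j s)) (rad_add (Finset.mem_insert_self j s)) _
    hst hne
  obtain ⟨x, ⟨⟨-, hx⟩, hxψ⟩, hx0⟩ := Submodule.exists_mem_ne_zero_of_ne_bot hψ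
  obtain ⟨d, rfl⟩ := exists_wt ψ fun c => by
    have h1 := hxψ (0, c)
    rw [rad_zero, hx c] at h1
    exact (smul_left_injective ℂ hx0 h1).symm
  refine ⟨d, fun d' hd' => ?_⟩
  obtain ⟨a, v, hav⟩ := exists_move hd'.symm
  exact ne_bot_of_conj ρ (rad j (insert j s)) _ (wt d) (wt d') (stv a (emb (insert j s) v)) (twRad a v)
    (stv_rad (Finset.mem_insert_self j s) a v) (hst' a v) hav hψ

theorem le_finrank_chi {s : Finset l} {j : l} (hj : j ∉ s) {k : ℕ}
    (hk : Fintype.card l = s.card + (k + 1)) (X : Submodule ℂ V)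
    (hX : ∀ g ∈ stvClosure (supOutside s : Submodule F (l ⊕ l → F)), Stable ρ X g)
    (hne : X ⊓ space ρ (z0 j) chi ≠ ⊥) :
    Nat.card F ^ k * (Nat.card F ^ k - 1) / 2 ≤ Module.finrank ℂ ↥(X ⊓ space ρ (z0 j) chi) := by
  classical
  have := Fintype.ofFinite F
  obtain ⟨d, hd⟩ := exists_weights ρ hj X hX hne
  have hcard : Fintype.card (Out (insert j s)) = k := by
    rw [Fintype.card_subtype_compl, Fintype.card_coe, Finset.card_insert_of_notMem hj, hk]; omega
  have h1 := cls_card (F := F) (I := Out (insert j s)) _ (chi_eq_one_or (wq d))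
  rw [hcard, ← Nat.card_eq_fintype_card] at h1
  refine h1.trans ?_
  have h2 := sum_finrank_le ρ (rad j (insert j s)) (X ⊓ space ρ (z0 j) chi)
    ((cls (chi (wq d))).image wt)
  rw [Finset.sum_image (fun _ _ _ _ h => wt_injective h)] at h2
  refine le_trans ?_ h2
  rw [Finset.card_eq_sum_ones]
  refine Finset.sum_le_sum fun d' hd' => ?_
  exact Nat.one_le_iff_ne_zero.mpr fun h0 =>
    hd d' (Finset.mem_filter.mp hd').2 (Submodule.finrank_eq_zero.mp h0)

theorem orbit_bound {s : Finset l} {j : l} (hj : j ∉ s) (X : Submodule ℂ V)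
    (hX : ∀ g ∈ stvClosure (supOutside s : Submodule F (l ⊕ l → F)), Stable ρ X g)
    {a₀ : F} {x : V} (hx : x ∈ X) (hx0 : ρ (stv a₀ (eV j)) x ≠ x) :
    X ⊓ space ρ (z0 j) chi ≠ ⊥ ∧ ∀ d, d ≤ Module.finrank ℂ ↥(X ⊓ space ρ (z0 j) chi) →
      (Nat.card F - 1) * d + Module.finrank ℂ ↥(X ⊓ space ρ (z0 j) 1) ≤ Module.finrank ℂ X := by
  classical
  have := Fintype.ofFinite F
  have hXz : ∀ c, Stable ρ X (z0 j c) := fun c => hX _ (stv_mem_stvClosure c (eV_mem hj))
  have htor : ∀ φ : AddChar F ℂ, φ ≠ 1 → ∃ g,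
      (∀ y ∈ X ⊓ space ρ (z0 j) chi, ρ g⁻¹ y ∈ X ⊓ space ρ (z0 j) φ) ∧
      (∀ y ∈ X ⊓ space ρ (z0 j) φ, ρ g y ∈ X ⊓ space ρ (z0 j) chi) := by
    intro φ hφ
    have hinj : Function.Injective fun r : F => AddChar.mulShift (chi : AddChar F ℂ) r :=
      AddChar.to_mulShift_inj_of_isPrimitive (AddChar.IsPrimitive.of_ne_one chi_ne_one)
    obtain ⟨r, rfl⟩ := ((Nat.bijective_iff_injective_and_card _).mpr ⟨hinj, by
      rw [Nat.card_eq_fintype_card (α := AddChar F ℂ), AddChar.card_eq, Nat.card_eq_fintype_card]⟩).2 φ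
    obtain ⟨lam, hlam⟩ := FiniteField.isSquare_of_char_two (CharP.ringChar_of_prime_eq_zero
      Nat.prime_two (CharTwo.two_eq_zero (R := F))) r
    have hl : lam ≠ 0 := by
      rintro rfl
      apply hφ
      ext c
      simp [hlam, AddChar.mulShift_apply]
    obtain ⟨g, hg, hge, -⟩ := exists_move_pair (snondeg_supOutside s) (eV_mem hj) (fV_mem hj)
      (Submodule.smul_mem _ lam (eV_mem hj)) (Submodule.smul_mem _ lam⁻¹ (fV_mem hj))
      (sbil_std_pair (F := F) j)
      (by rw [sbil_smul_left, sbil_smul_right, sbil_std_pair, mul_one, mul_inv_cancel₀ hl])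
    have key : ∀ c, stv (c * lam ^ 2) (eV j) * g = g * stv c (eV j) := fun c => by
      rw [← stv_smul, stv_comm_eV hge]
    refine ⟨g, fun y hy => ⟨hX _ (inv_mem hg) y hy.1, fun c => ?_⟩,
      fun y hy => ⟨hX _ hg y hy.1, fun c => ?_⟩⟩
    · show ρ (stv c (eV j)) (ρ g⁻¹ y) = _
      have : stv c (eV j) * g⁻¹ = g⁻¹ * stv (c * lam ^ 2) (eV j) := by
        rw [eq_inv_mul_iff_mul_eq, ← mul_assoc, ← key, mul_inv_cancel_right]
      rw [← Module.End.mul_apply, ← map_mul, this, map_mul, Module.End.mul_apply, hy.2, map_smul,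
        AddChar.mulShift_apply, hlam, mul_comm c, sq]
    · show ρ (stv c (eV j)) (ρ g y) = _
      have h := key (c / lam ^ 2)
      rw [div_mul_cancel₀ _ (pow_ne_zero 2 hl)] at h
      rw [← Module.End.mul_apply, ← map_mul, h, map_mul, Module.End.mul_apply, hy.2, map_smul,
        AddChar.mulShift_apply, hlam, ← sq, mul_div_cancel₀ _ (pow_ne_zero 2 hl)]
  obtain ⟨φ, hφ, hne⟩ := exists_char ρ (z0 j) (z0_add j) X hXz hx hx0
  refine ⟨?_, fun d hd => ?_⟩
  · obtain ⟨g, -, hg⟩ := htor φ hφ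
    obtain ⟨y, hy, hy0⟩ := Submodule.exists_mem_ne_zero_of_ne_bot hne
    exact Submodule.ne_bot_iff _ |>.mpr ⟨_, hg y hy,
      fun h => hy0 (rho_injective ρ g (by rw [h, map_zero]))⟩
  have hsum := sum_finrank_le ρ (z0 j) X (Finset.univ : Finset (AddChar F ℂ))
  rw [← Finset.add_sum_erase _ _ (Finset.mem_univ (1 : AddChar F ℂ))] at hsum
  have hge := Finset.card_nsmul_le_sum (Finset.univ.erase (1 : AddChar F ℂ))
    (fun φ => Module.finrank ℂ ↥(X ⊓ space ρ (z0 j) φ)) d (fun φ hφ => by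
      obtain ⟨g, hg, -⟩ := htor φ (Finset.ne_of_mem_erase hφ)
      exact hd.trans (LinearMap.finrank_le_finrank_of_injective (f := (ρ g⁻¹).restrict hg)
        fun a b hab => Subtype.ext (rho_injective ρ g⁻¹ (congrArg Subtype.val hab))))
  rw [Finset.card_erase_of_mem (Finset.mem_univ _), Finset.card_univ, AddChar.card_eq, smul_eq_mul,
    ← Nat.card_eq_fintype_card] at hge
  omega

theorem exists_common_fixed {s : Finset l} {j : l} (hj : j ∉ s) (i i' : Out (insert j s))
    (hii : i ≠ i') (X : Submodule ℂ V)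
    (hX : ∀ g ∈ stvClosure (supOutside s : Submodule F (l ⊕ l → F)), Stable ρ X g)
    (hne : X ⊓ space ρ (z0 j) chi ≠ ⊥) :
    ∃ y ∈ X ⊓ space ρ (z0 j) chi, y ≠ 0 ∧ ∀ c, ρ (stv c (eV i.1)) y = y := by
  classical
  have := Fintype.ofFinite F
  obtain ⟨d, hd⟩ := exists_weights ρ hj X hX hne
  obtain ⟨c₀, hc₀⟩ := exists_chi_neg (F := F)
  set v : Out (insert j s) → F × F := Pi.single i (0, 1) with hv
  obtain ⟨d₀, hd₀, hvd⟩ : ∃ d₀ : Out (insert j s) → F × F, chi (wq d₀) = chi (wq d) ∧ wb v d₀ = 0 := by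
    rcases chi_eq_one_or (wq d) with h | h <;> rw [h]
    · exact ⟨0, by simp [wq], by simp [wb]⟩
    · refine ⟨Pi.single i' (c₀, 1), ?_, Finset.sum_eq_zero fun k _ => ?_⟩
      · rw [wq, Finset.sum_eq_single i' (fun k _ hk => by simp [hk]) (by simp)]
        simp [hc₀]
      · rcases eq_or_ne k i with rfl | hk
        · simp [hv, hii]
        · simp [hv, hk]
  have hqv : wq v = 0 := Finset.sum_eq_zero fun k _ => by
    rcases eq_or_ne k i with rfl | hk <;> simp [hv, *]
  choose rt hrt using fun a : F => FiniteField.isSquare_of_char_two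
    (CharP.ringChar_of_prime_eq_zero Nat.prime_two (CharTwo.two_eq_zero (R := F))) a
  have hv' : emb (insert j s) v = eV i.1 := emb_single _ i
  obtain ⟨x, ⟨hxE, hxw⟩, hx0⟩ := Submodule.exists_mem_ne_zero_of_ne_bot (hd d₀ hd₀)
  obtain ⟨hst, hst'⟩ := stable_chi ρ hj X hX chi
  let T : F → V := fun a => ρ (stv a (emb (insert j s) v)) x
  have hTw : ∀ a p, ρ (rad j (insert j s) p) (T a) = wt (d₀ + rt a • v) p • T a := by
    intro a p
    simp only [T]
    rw [← Module.End.mul_apply, ← map_mul, stv_rad (Finset.mem_insert_self j s), map_mul,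
      Module.End.mul_apply, hxw, map_smul,
      wt_twRad d₀ v (a := a) (y := rt a) (r := 0) (by rw [pow_two]; exact (hrt a).symm) (by rw [hqv]; ring), hvd]
    simp
  refine ⟨∑ a, T a, Submodule.sum_mem _ fun a _ => hst' a v x hxE, fun h0 => hx0 ?_, fun c => ?_⟩
  · have h1 : ∑ p, wt d₀ p • ρ (rad j (insert j s) p) (∑ a, T a) = 0 := by
      simp [h0]
    simp only [map_sum, Finset.smul_sum, hTw, smul_smul] at h1
    rw [Finset.sum_comm] at h1
    simp only [← Finset.sum_smul, ← AddChar.mul_apply, AddChar.sum_eq_ite] at h1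
    rw [Finset.sum_eq_single (0 : F)] at h1
    · have hr0 : rt 0 = 0 := mul_self_eq_zero.mp (hrt 0).symm
      rw [hr0, zero_smul, add_zero, if_pos] at h1
      · simpa [T] using (smul_eq_zero.mp h1).resolve_left (Nat.cast_ne_zero.mpr Fintype.card_ne_zero)
      · rw [← AddChar.one_eq_zero]
        ext p
        rw [AddChar.mul_apply, wt_apply, chi_mul_self, AddChar.one_apply]
    · intro a _ ha
      rw [if_neg, zero_smul]
      intro h
      apply ha
      have h2 : wt (d₀ + rt a • v) = wt d₀ := by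
        ext p
        have h3 := congrArg (fun ψ : AddChar ((Out (insert j s) → F × F) × F) ℂ => ψ p) h
        simp only [← AddChar.one_eq_zero, AddChar.mul_apply, AddChar.one_apply] at h3
        rw [← one_mul (wt (d₀ + rt a • v) p), ← chi_mul_self (wb d₀ p.1 + p.2), mul_assoc, ← wt_apply,
          h3, mul_one]
      have h4 := congrArg Prod.snd (congrFun (wt_injective h2) i)
      simp [hv] at h4
      rw [hrt a, h4, mul_zero]
    · simp
  · rw [← hv', map_sum]
    exact Fintype.sum_equiv (Equiv.addLeft c) _ _ fun a => by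
      simp only [T, Equiv.coe_addLeft, ← Module.End.mul_apply, ← map_mul, stv_mul]

/-- The Landazuri–Seitz bound on a coordinate subspace. -/
theorem bound : ∀ (m : ℕ) (s : Finset l), Fintype.card l = s.card + m → ∀ X : Submodule ℂ V,
    (∀ g ∈ stvClosure (supOutside s : Submodule F (l ⊕ l → F)), Stable ρ X g) →
    (∃ v ∈ (supOutside s : Submodule F (l ⊕ l → F)), ∃ a : F, ∃ x ∈ X, ρ (stv a v) x ≠ x) →
    bnd (Nat.card F) m ≤ Module.finrank ℂ X := by
  intro m
  induction m with
  | zero => intros; simp [bnd]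
  | succ k ih =>
    intro s hs X hX ⟨v, hv, a, x, hxX, hx⟩
    obtain ⟨j, -, hj⟩ := Finset.exists_mem_notMem_of_card_lt_card
      (show s.card < (Finset.univ : Finset l).card by rw [Finset.card_univ]; omega)
    have hv0 : v ≠ 0 := by
      rintro rfl
      exact hx (by rw [show stv a (0 : l ⊕ l → F) = 1 from sp_ext fun y => by simp, map_one]; rfl)
    obtain ⟨g, hg, hgv⟩ := exists_move_vector (snondeg_supOutside s) hv (eV_mem hj) hv0
      (by simp [eV])
    have hx' : ρ (stv a (eV j)) (ρ g x) ≠ ρ g x := fun h => hx (rho_injective ρ g (by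
      rw [← Module.End.mul_apply, ← map_mul, show g * stv a v = stv a (eV j) * g by
        rw [← hgv, ← stv_conj, inv_mul_cancel_right], map_mul, Module.End.mul_apply, h]))
    obtain ⟨hne, hmain⟩ := orbit_bound ρ hj X hX (hX g hg x hxX) hx'
    show (Nat.card F - 1) * (Nat.card F ^ k * (Nat.card F ^ k - 1) / 2) + bnd (Nat.card F) k ≤ _
    refine le_trans (Nat.add_le_add_left ?_ _) (hmain _ (le_finrank_chi ρ hj hs X hX hne))
    rcases Nat.lt_or_ge k 2 with hk | hk
    · interval_cases k <;> simp [bnd]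
    have hcard : Fintype.card (Out (insert j s)) = k := by
      rw [Fintype.card_subtype_compl, Fintype.card_coe, Finset.card_insert_of_notMem hj, hs]; omega
    obtain ⟨i, i', hii⟩ := Fintype.exists_pair_of_one_lt_card (α := Out (insert j s)) (by omega)
    have his : i.1 ∉ s := fun h => i.2 (Finset.mem_insert_of_mem h)
    have hle : stvClosure (supOutside (insert j s) : Submodule F (l ⊕ l → F)) ≤
        stvClosure (supOutside s) := Subgroup.closure_mono fun h ⟨b, w, hw, e⟩ =>
      ⟨b, w, fun r hr => hw r (Finset.mem_insert_of_mem hr), e⟩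
    obtain ⟨y, hy, c, hyc⟩ : ∃ y ∈ X ⊓ space ρ (z0 j) 1, ∃ c, ρ (stv c (eV i.1)) y ≠ y := by
      by_contra hc
      push Not at hc
      obtain ⟨g, hg, hge, -⟩ := exists_move_pair (snondeg_supOutside s) (eV_mem hj) (fV_mem hj)
        (eV_mem his) (fV_mem his) (sbil_std_pair (F := F) j) (sbil_std_pair i.1)
      have hle : X ⊓ space ρ (z0 j) 1 ≤ X ⊓ space ρ (z0 i.1) 1 := fun y hy =>
        ⟨hy.1, (mem_space_one ρ).mpr (hc y hy)⟩
      have hmap : ∀ y ∈ X ⊓ space ρ (z0 i.1) 1, ρ g⁻¹ y ∈ X ⊓ space ρ (z0 j) 1 := by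
        rintro y ⟨hyX, hyz⟩
        refine ⟨hX _ (inv_mem hg) y hyX, (mem_space_one ρ).mpr fun c => ?_⟩
        have h2 : stv c (eV j) * g⁻¹ = g⁻¹ * stv c (eV i.1) := by
          rw [eq_inv_mul_iff_mul_eq, ← mul_assoc, ← stv_comm_eV hge, mul_inv_cancel_right]
        rw [← Module.End.mul_apply, ← map_mul, h2, map_mul, Module.End.mul_apply,
          (mem_space_one ρ).mp hyz]
      have heq := Submodule.eq_of_le_of_finrank_le hle
        (LinearMap.finrank_le_finrank_of_injective (f := (ρ g⁻¹).restrict hmap)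
          fun a b hab => Subtype.ext (rho_injective ρ g⁻¹ (congrArg Subtype.val hab)))
      obtain ⟨y, hy, hy0, hyfix⟩ := exists_common_fixed ρ hj i i' hii X hX hne
      have hy1 : y ∈ X ⊓ space ρ (z0 j) 1 := heq ▸ ⟨hy.1, (mem_space_one ρ).mpr hyfix⟩
      obtain ⟨c₀, hc₀⟩ := exists_chi_neg (F := F)
      have e1 := hy.2 c₀
      rw [(mem_space_one ρ).mp hy1.2 c₀, hc₀] at e1
      have e2 : (2 : ℂ) • y = 0 := by
        rw [two_smul]; nth_rw 1 [e1]; simp
      exact hy0 ((smul_eq_zero.mp e2).resolve_left two_ne_zero)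
    refine ih (insert j s) (by rw [Finset.card_insert_of_notMem hj]; omega) _ (fun h hh => ?_)
      ⟨eV i.1, eV_mem i.2, c, y, hy, hyc⟩
    refine stable_inf_space ρ (hX _ (hle hh)) fun b => stv_comm_eV ?_ b
    exact stvClosure_fix hh fun w hw => (sbil_eV_out (Finset.mem_insert_self j s) hw).1

end CfsgLib.KnownA.SympMinDeg
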