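import Cfsg.Agent.Lib.Classical.SympBasic
import Cfsg.Agent.Lib.KnownA.CentralChar

/-!
# Landazuri–Seitz bound for `Sp_{2n}(q)`, `q` even: the quadratic form on the radical

The unipotent radical of a point stabiliser is elementary abelian; its characters which are
non-trivial on the transvection group form two orbits, sorted by an Arf invariant.
-/

set_option autoImplicit false

namespace CfsgLib.KnownA.SympMinDeg

open Matrix CfsgLib.Classical CfsgLib.KnownA.CentralChar

variable {F : Type*} [Field F]

/-! ### The character -/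

/-- `y ↦ y² + y`. -/
def asHom [CharP F 2] : F →+ F :=
  AddMonoidHom.mk' (fun y => y ^ 2 + y) fun a b => by
    show (a + b) ^ 2 + (a + b) = a ^ 2 + a + (b ^ 2 + b)
    rw [CharTwo.add_sq]; ring

theorem asHom_apply [CharP F 2] (y : F) : asHom y = y ^ 2 + y := rfl

theorem card_asHom_ker [CharP F 2] : Nat.card (asHom (F := F)).ker = 2 := by
  have hset : ((asHom (F := F)).ker : Set F) = {0, 1} := by
    ext y
    simp only [SetLike.mem_coe, AddMonoidHom.mem_ker, asHom_apply, Set.mem_insert_iff,
      Set.mem_singleton_iff]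
    constructor
    · intro h
      have h' : y * (y + 1) = 0 := by linear_combination h
      rcases mul_eq_zero.mp h' with h0 | h1
      · exact Or.inl h0
      · exact Or.inr (CharTwo.add_eq_zero.mp h1)
    · rintro (rfl | rfl) <;> simp [CharTwo.add_self_eq_zero]
  rw [← SetLike.coe_sort_coe, hset, Nat.card_coe_set_eq, Set.ncard_pair zero_ne_one]

variable [Finite F] [CharP F 2]

attribute [local instance] _root_.Classical.propDecidable

theorem asHom_range_index : (asHom (F := F)).range.index = 2 := by
  have h2 := (asHom (F := F)).range.card_mul_index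
  have h3 := (asHom (F := F)).ker.card_mul_index
  rw [AddSubgroup.index_ker, card_asHom_ker] at h3
  have hpos : 0 < Nat.card (asHom (F := F)).range := Nat.card_pos
  nlinarith [Nat.eq_of_mul_eq_mul_left hpos (h2.trans (h3.symm.trans (mul_comm _ _)))]

/-- The sign of the absolute trace. -/
noncomputable def chi : AddChar F ℂ where
  toFun x := if x ∈ (asHom (F := F)).range then 1 else -1
  map_zero_eq_one' := by simp
  map_add_eq_mul' a b := by
    have h := AddSubgroup.add_mem_iff_of_index_two (asHom_range_index (F := F)) (a := a) (b := b)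
    by_cases ha : a ∈ (asHom (F := F)).range <;> by_cases hb : b ∈ (asHom (F := F)).range <;>
      simp_all

theorem chi_eq (x : F) : chi x = if x ∈ (asHom (F := F)).range then 1 else -1 := rfl

theorem chi_eq_one_or (x : F) : chi x = 1 ∨ chi x = -1 := by
  rw [chi_eq]; split_ifs <;> simp

theorem chi_eq_one_iff {x : F} : chi x = 1 ↔ ∃ y : F, y ^ 2 + y = x := by
  rw [chi_eq]
  split_ifs with h
  · exact iff_of_true rfl h
  · exact iff_of_false (by norm_num) h

theorem exists_chi_neg : ∃ x : F, chi x = -1 := by
  by_contra hc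
  push Not at hc
  have htop : (asHom (F := F)).range = ⊤ := by
    ext x
    simp only [AddMonoidHom.mem_range, AddSubgroup.mem_top, iff_true, asHom_apply]
    exact chi_eq_one_iff.mp ((chi_eq_one_or x).resolve_right (hc x))
  have := asHom_range_index (F := F)
  rw [htop, AddSubgroup.index_top] at this
  omega

theorem chi_ne_one : (chi : AddChar F ℂ) ≠ 1 := by
  obtain ⟨x, hx⟩ := exists_chi_neg (F := F)
  intro h
  rw [h, AddChar.one_apply] at hx
  norm_num at hx

theorem chi_sq (x : F) : chi (x ^ 2) = chi x := by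
  have h : chi (x ^ 2 + x) = 1 := chi_eq_one_iff.mpr ⟨x, rfl⟩
  rw [AddChar.map_add_eq_mul] at h
  rcases chi_eq_one_or (x ^ 2) with a | a <;> rcases chi_eq_one_or x with b | b <;>
    rw [a, b] at h ⊢ <;> norm_num at h

theorem chi_mul_self (x : F) : chi x * chi x = 1 := by
  rw [← AddChar.map_add_eq_mul, CharTwo.add_self_eq_zero, AddChar.map_zero_eq_one]

theorem chi_eq_of_mul {x y : F} (h : chi x = chi y) : chi (x + y) = 1 := by
  rw [AddChar.map_add_eq_mul, h, chi_mul_self]

/-! ### The form on coordinates outside `t` -/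

variable {I : Type*} [Fintype I]

/-- The quadratic form `Σ aᵢ bᵢ`. -/
def wq (w : I → F × F) : F := ∑ i, (w i).1 * (w i).2

/-- Its polar form. -/
def wb (w v : I → F × F) : F := ∑ i, ((w i).2 * (v i).1 + (w i).1 * (v i).2)

omit [Finite F] [CharP F 2] in
theorem wb_comm (w v : I → F × F) : wb w v = wb v w :=
  Finset.sum_congr rfl fun _ _ => by ring

omit [Finite F] [CharP F 2] in
theorem wb_add_left (u w v : I → F × F) : wb (u + w) v = wb u v + wb w v := by
  rw [wb, wb, wb, ← Finset.sum_add_distrib]
  exact Finset.sum_congr rfl fun _ _ => by simp; ring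

omit [Finite F] [CharP F 2] in
theorem wb_smul_left (s : F) (w v : I → F × F) : wb (s • w) v = s * wb w v := by
  rw [wb, wb, Finset.mul_sum]
  exact Finset.sum_congr rfl fun _ _ => by simp; ring

omit [Finite F] [CharP F 2] in
theorem wb_add_right (u w v : I → F × F) : wb u (w + v) = wb u w + wb u v := by
  rw [wb_comm, wb_add_left, wb_comm w, wb_comm v]

omit [Finite F] [CharP F 2] in
theorem wb_smul_right (s : F) (w v : I → F × F) : wb w (s • v) = s * wb w v := by
  rw [wb_comm, wb_smul_left, wb_comm]

omit [Finite F] [CharP F 2] in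
theorem wq_add (u w : I → F × F) : wq (u + w) = wq u + wq w + wb u w := by
  rw [wq, wq, wq, wb, ← Finset.sum_add_distrib, ← Finset.sum_add_distrib]
  exact Finset.sum_congr rfl fun _ _ => by simp; ring

omit [Finite F] [CharP F 2] in
theorem wq_smul (s : F) (w : I → F × F) : wq (s • w) = s ^ 2 * wq w := by
  rw [wq, wq, Finset.mul_sum]
  exact Finset.sum_congr rfl fun _ _ => by simp; ring

/-- The action of a transvection with vector `v` on the coordinates. -/
def tw (a : F) (v w : I → F × F) : I → F × F := w + (a * wb v w) • v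

/-- The induced action on the radical `(I → F × F) × F`. -/
def twRad (a : F) (v : I → F × F) (p : (I → F × F) × F) : (I → F × F) × F :=
  (tw a v p.1, p.2 + wq p.1 + wq (tw a v p.1))

/-- The characters of the radical extending `chi`. -/
noncomputable def wt (d : I → F × F) : AddChar ((I → F × F) × F) ℂ :=
  chi.compAddMonoidHom (AddMonoidHom.mk' (fun p => wb d p.1 + p.2) fun p p' => by
    simp only [Prod.fst_add, Prod.snd_add, wb_add_right]; ring)

theorem wt_apply (d : I → F × F) (p : (I → F × F) × F) : wt d p = chi (wb d p.1 + p.2) := rfl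

/-- A transvection moves `wt d` to another weight. -/
theorem wt_twRad (d v : I → F × F) {a y r : F} (hy : y ^ 2 = a) (hr : r ^ 2 = wq v)
    (p : (I → F × F) × F) :
    wt d (twRad a v p) = wt (d + (a * wb v d + y + a * r) • v) p := by
  obtain ⟨w, c⟩ := p
  simp only [wt_apply, twRad, tw]
  set Bv := wb v w with hBv
  have e1 : wb d (w + (a * Bv) • v) = wb d w + a * Bv * wb v d := by
    rw [wb_add_right, wb_smul_right, wb_comm d v]
  have e2 : wq w + wq (w + (a * Bv) • v) = ((y + a * r) * Bv) ^ 2 := by
    rw [wq_add w, wq_smul, wb_smul_right, wb_comm w v, ← hBv, ← hy, ← hr]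
    rw [mul_pow (y + y ^ 2 * r), CharTwo.add_sq]
    linear_combination (CharTwo.add_self_eq_zero (wq w))
  have e3 : wb (d + (a * wb v d + y + a * r) • v) w = wb d w + (a * wb v d + y + a * r) * Bv := by
    rw [wb_add_left, wb_smul_left]
  rw [e1, e3, add_assoc c, e2, AddChar.map_add_eq_mul, AddChar.map_add_eq_mul chi c, chi_sq,
    ← AddChar.map_add_eq_mul, ← AddChar.map_add_eq_mul]
  congr 1
  ring

/-- One transvection moves `d` to any other point of its class. -/
theorem exists_move {d d' : I → F × F} (h : chi (wq d) = chi (wq d')) :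
    ∃ (a : F) (v : I → F × F), ∀ p, wt d (twRad a v p) = wt d' p := by
  have := Fintype.ofFinite F
  obtain ⟨r, hr⟩ := FiniteField.isSquare_of_char_two (CharP.ringChar_of_prime_eq_zero Nat.prime_two
    (CharTwo.two_eq_zero (R := F))) (wq (d + d'))
  rw [← sq] at hr
  set b := wb (d + d') d with hb
  have hc : chi (b + r) = 1 := by
    rw [AddChar.map_add_eq_mul, ← chi_sq r, ← hr, ← AddChar.map_add_eq_mul, wq_add, hb, wb_add_left]
    rw [show wb d d + wb d' d + (wq d + wq d' + wb d d') = wq d + wq d' by
      have : wb d d = 0 := Finset.sum_eq_zero fun _ _ => by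
        rw [mul_comm]; exact CharTwo.add_self_eq_zero _
      rw [this, wb_comm d' d]
      linear_combination CharTwo.add_self_eq_zero (wb d d')]
    exact chi_eq_of_mul h
  obtain ⟨y, hy⟩ : ∃ y : F, (b + r) * y ^ 2 + y = 1 := by
    by_cases h0 : b + r = 0
    · exact ⟨1, by rw [h0]; ring⟩
    obtain ⟨z, hz⟩ := chi_eq_one_iff.mp hc
    exact ⟨z / (b + r), by field_simp; linear_combination hz⟩
  refine ⟨y ^ 2, d + d', fun p => ?_⟩
  rw [wt_twRad d (d + d') rfl hr.symm p, ← hb,
    show y ^ 2 * b + y + y ^ 2 * r = 1 by linear_combination hy, one_smul]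
  congr 2
  funext i
  simp only [Pi.add_apply]
  ext <;> simp [← add_assoc, CharTwo.add_self_eq_zero]

omit [Finite F] [CharP F 2] in
theorem exists_wb_eq [DecidableEq I] {d : I → F × F} (hd : d ≠ 0) (x : F) : ∃ w, wb d w = x := by
  obtain ⟨i, hi⟩ := Function.ne_iff.mp hd
  have hs : ∀ u : F × F, wb d (Pi.single i u) = (d i).2 * u.1 + (d i).1 * u.2 := by
    intro u
    rw [wb, Finset.sum_eq_single i]
    · simp
    · intro k _ hk; simp [Pi.single_eq_of_ne hk]
    · simp
  by_cases h1 : (d i).1 = 0
  · have h2 : (d i).2 ≠ 0 := fun h2 => hi (Prod.ext h1 h2)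
    exact ⟨Pi.single i (x / (d i).2, 0), by rw [hs]; field_simp; ring⟩
  · exact ⟨Pi.single i (0, x / (d i).1), by rw [hs]; field_simp; ring⟩

theorem wt_injective : Function.Injective (wt (F := F) (I := I)) := by
  classical
  intro d d' h
  by_contra hne
  have h0 : d + d' ≠ 0 := fun e => hne <| funext fun i => by
    have := congrFun e i
    exact Prod.ext (CharTwo.add_eq_zero.mp (congrArg Prod.fst this))
      (CharTwo.add_eq_zero.mp (congrArg Prod.snd this))
  obtain ⟨x, hx⟩ := exists_chi_neg (F := F)
  obtain ⟨w, hw⟩ := exists_wb_eq h0 x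
  have := congrArg (fun ψ : AddChar ((I → F × F) × F) ℂ => ψ (w, 0)) h
  simp only [wt_apply, add_zero] at this
  rw [wb_add_left] at hw
  rw [← hw, chi_eq_of_mul this] at hx
  norm_num at hx

/-- Every character of the radical extending `chi` is a weight. -/
theorem exists_wt (ψ : AddChar ((I → F × F) × F) ℂ) (hψ : ∀ c, ψ (0, c) = chi c) :
    ∃ d, ψ = wt d := by
  classical
  have := Fintype.ofFinite F
  let Φ : (I → F × F) → AddChar (I → F × F) ℂ := fun d =>
    (wt d).compAddMonoidHom (AddMonoidHom.inl (I → F × F) F)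
  have hinj : Function.Injective Φ := by
    intro d d' h
    apply wt_injective
    ext ⟨w, c⟩
    have h1 := congrArg (fun φ : AddChar (I → F × F) ℂ => φ w) h
    simp only [Φ, AddChar.compAddMonoidHom_apply, AddMonoidHom.inl_apply, wt_apply, add_zero] at h1
    simp only [wt_apply, AddChar.map_add_eq_mul, h1]
  have hcard : Nat.card (I → F × F) = Nat.card (AddChar (I → F × F) ℂ) := by
    rw [Nat.card_eq_fintype_card (α := AddChar (I → F × F) ℂ), AddChar.card_eq,
      Nat.card_eq_fintype_card]
  obtain ⟨d, hd⟩ := ((Nat.bijective_iff_injective_and_card _).mpr ⟨hinj, hcard⟩).2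
    (ψ.compAddMonoidHom (AddMonoidHom.inl (I → F × F) F))
  refine ⟨d, ?_⟩
  ext ⟨w, c⟩
  have h1 := congrArg (fun φ : AddChar (I → F × F) ℂ => φ w) hd
  simp only [Φ, AddChar.compAddMonoidHom_apply, AddMonoidHom.inl_apply, wt_apply, add_zero] at h1
  rw [show ((w, c) : (I → F × F) × F) = (w, 0) + (0, c) by simp, AddChar.map_add_eq_mul, hψ,
    ← h1, ← AddChar.map_add_eq_mul, wt_apply]
  simp

theorem chi_sum {J : Type*} (S : Finset J) (g : J → F) : chi (∑ i ∈ S, g i) = ∏ i ∈ S, chi (g i) := by
  induction S using Finset.induction_on with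
  | empty => simp
  | insert i S hi ih => rw [Finset.sum_insert hi, Finset.prod_insert hi, AddChar.map_add_eq_mul, ih]

/-- The points of an Arf class. -/
noncomputable def cls [Fintype F] [DecidableEq I] (ε : ℂ) : Finset (I → F × F) :=
  Finset.univ.filter fun d => chi (wq d) = ε

theorem cls_card [Fintype F] [DecidableEq I] (ε : ℂ) (hε : ε = 1 ∨ ε = -1) :
    Fintype.card F ^ Fintype.card I * (Fintype.card F ^ Fintype.card I - 1) / 2 ≤
      (cls (F := F) (I := I) ε).card := by
  classical
  set N := Fintype.card F ^ Fintype.card I with hN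
  have hinner : ∑ u : F × F, (chi (u.1 * u.2) : ℂ) = Fintype.card F := by
    rw [Fintype.sum_prod_type, Finset.sum_congr rfl fun a _ => by
      rw [Finset.sum_congr rfl fun x _ => congrArg chi (mul_comm a x),
        AddChar.sum_mulShift (ψ := (chi : AddChar F ℂ)) a (AddChar.IsPrimitive.of_ne_one chi_ne_one)]]
    simp
  have hsum : ∑ d : I → F × F, chi (wq d) = (N : ℂ) := by
    simp only [wq, chi_sum]
    rw [← Fintype.prod_sum (fun (_ : I) (u : F × F) => (chi (u.1 * u.2) : ℂ))]
    simp [hinner, hN]
  have hsplit : ∀ d : I → F × F, chi (wq d) =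
      (if chi (wq d) = 1 then (1 : ℂ) else 0) - (if chi (wq d) = -1 then (1 : ℂ) else 0) := by
    intro d
    rcases chi_eq_one_or (wq d) with h | h <;> rw [h] <;> norm_num
  have hone : ∀ d : I → F × F, (1 : ℂ) =
      (if chi (wq d) = 1 then (1 : ℂ) else 0) + (if chi (wq d) = -1 then (1 : ℂ) else 0) := by
    intro d
    rcases chi_eq_one_or (wq d) with h | h <;> rw [h] <;> norm_num
  have h1 : ((cls (F := F) (I := I) 1).card : ℤ) - (cls (F := F) (I := I) (-1)).card = N := by
    have : ((cls (F := F) (I := I) 1).card : ℂ) - (cls (F := F) (I := I) (-1)).card = N := by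
      rw [← hsum, Finset.sum_congr rfl fun d _ => hsplit d, Finset.sum_sub_distrib,
        Finset.sum_boole, Finset.sum_boole]
      congr 2 <;> ext <;> simp [cls]
    exact_mod_cast this
  have h2 : (cls (F := F) (I := I) 1).card + (cls (F := F) (I := I) (-1)).card = N * N := by
    have : ((cls (F := F) (I := I) 1).card : ℂ) + (cls (F := F) (I := I) (-1)).card =
        ∑ _d : I → F × F, (1 : ℂ) := by
      rw [Finset.sum_congr rfl fun d _ => hone d, Finset.sum_add_distrib,
        Finset.sum_boole, Finset.sum_boole]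
      congr 2 <;> ext <;> simp [cls]
    rw [Finset.sum_const, Finset.card_univ, Fintype.card_fun, Fintype.card_prod, nsmul_one] at this
    rw [← mul_pow]
    exact_mod_cast this
  have hN1 : 1 ≤ N := Nat.one_le_pow _ _ Fintype.card_pos
  have h3 : N * (N - 1) + N = N * N := by
    obtain ⟨M, hM⟩ : ∃ M, N = M + 1 := ⟨N - 1, by omega⟩
    rw [hM, Nat.add_sub_cancel]; ring
  rcases hε with rfl | rfl <;> omega

end CfsgLib.KnownA.SympMinDeg
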